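import Cfsg.Agent.Lib.PSLOrderSpectrum.Zassenhaus
import Cfsg.Agent.Recognition.PSL2Spectrum
import Cfsg.Agent.S0243
import Cfsg.Agent.S0738
import Cfsg.Agent.S1230
import Cfsg.Agent.Lib.Perm.Zassenhaus.Main
import Cfsg.Agent.Lib.Classical.SmallIso

/-!
# `PSL₂(q)` is determined by its order and its element orders
-/

set_option autoImplicit false

namespace Cfsg.Agent.PSLOrderSpectrum

open Subgroup MulAction
open Cfsg.Agent.Recognition

theorem card_psl_two {F : Type*} [Field F] [Fintype F] :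
    Nat.gcd 2 (Fintype.card F - 1) * Nat.card (Matrix.ProjectiveSpecialLinearGroup (Fin 2) F) =
      Fintype.card F * ((Fintype.card F - 1) * (Fintype.card F + 1)) := by
  obtain ⟨q, hq⟩ : ∃ q, Fintype.card F = q + 2 := ⟨Fintype.card F - 2, by
    have := Fintype.one_lt_card (α := F); omega⟩
  have h := S0243.result (q := q + 2) hq 2 le_rfl
  rw [hq]
  simp only [Fin.prod_univ_two, Fin.val_zero, Fin.val_one, pow_zero, pow_one] at h
  rw [show q + 2 - 1 = q + 1 by omega] at h ⊢
  have e1 : (q + 2) ^ 2 - 1 = (q + 1) * (q + 3) := by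
    have : (q + 2) ^ 2 = (q + 1) * (q + 3) + 1 := by ring
    omega
  have e2 : (q + 2) ^ 2 - (q + 2) = (q + 1) * (q + 2) := by
    have : (q + 2) ^ 2 = (q + 1) * (q + 2) + (q + 2) := by ring
    omega
  rw [e1, e2] at h
  refine Nat.eq_of_mul_eq_mul_left (show 0 < q + 1 by omega) ?_
  calc (q + 1) * (Nat.gcd 2 (q + 1) * Nat.card (Matrix.ProjectiveSpecialLinearGroup (Fin 2) F))
      = Nat.gcd 2 (q + 1) * ((q + 1) * Nat.card (Matrix.ProjectiveSpecialLinearGroup (Fin 2) F)) := by ring
    _ = _ := by rw [h]; ring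

theorem iso_of_odd {G : Type*} [Group G] [Finite G] {p f : ℕ} (h : Hyp G p f) {F : Type*} [Field F]
    [Fintype F] (hF : Fintype.card F = p ^ f) :
    Nonempty (G ≃* Matrix.ProjectiveSpecialLinearGroup (Fin 2) F) := by
  classical
  haveI := Fact.mk h.prime
  haveI := Fintype.ofFinite (Sylow p G)
  obtain ⟨h1, h2, -⟩ := h.arith
  have h5 := h.five
  obtain ⟨hn, hN⟩ := h.card_sylows
  have hΩ : Fintype.card (Sylow p G) = p ^ f + 1 := by rw [← Nat.card_eq_fintype_card, hn]
  have hZ := h.isZassenhaus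
  haveI : Nontrivial (Sylow p G) := Finite.one_lt_card_iff_nontrivial.1 (by omega)
  obtain ⟨a, b, hab⟩ := exists_pair_ne (Sylow p G)
  have hst : stabilizer G a = normalizer ((a : Subgroup G) : Set G) := by
    ext g; exact Sylow.smul_eq_iff_mem_normalizer
  have hle : (a : Subgroup G) ≤ stabilizer G a := hst ▸ le_normalizer
  have hnorm : ((a : Subgroup G).subgroupOf (stabilizer G a)).Normal := ⟨fun u hu g => by
    rw [mem_subgroupOf] at hu ⊢
    exact (mem_normalizer_iff.1 (hst ▸ g.2 : (g : G) ∈ normalizer ((a : Subgroup G) : Set G)) _).1 hu⟩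
  have hreg : ∀ y z : Sylow p G, y ≠ a → z ≠ a → ∃! u : (a : Subgroup G), (u : G) • y = z :=
    fun y z hy hz => h.existsUnique_smul_eq hy hz
  have htwo : Nat.card ↥(stabilizer G a ⊓ stabilizer G b) = (p ^ f - 1) / 2 := by
    let φ : ↥(a : Subgroup G) × ↥(stabilizer G a ⊓ stabilizer G b) → stabilizer G a := fun x =>
      ⟨(x.1 : G) * (x.2 : G), mul_mem (hle x.1.2) x.2.2.1⟩
    have hbij : Function.Bijective φ := by
      constructor
      · intro x y e
        have e1 : (x.1 : G) * (x.2 : G) = (y.1 : G) * (y.2 : G) := congrArg Subtype.val e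
        have e2 : x.1 = y.1 := by
          refine (hreg b ((y.1 : G) • b) hab.symm (fun e3 => hab ?_)).unique ?_ rfl
          · have hy : (y.1 : G) • a = a := mem_stabilizer_iff.1 (hle y.1.2)
            exact smul_left_cancel (y.1 : G) (hy.trans e3.symm)
          · have := congrArg (· • b) e1
            simp only [mul_smul] at this
            rwa [mem_stabilizer_iff.1 x.2.2.2, mem_stabilizer_iff.1 y.2.2.2] at this
        refine Prod.ext e2 (Subtype.ext ?_)
        rw [e2] at e1
        exact mul_left_cancel e1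
      · intro g
        have hga : (g : G) • a = a := g.2
        obtain ⟨u, hu, -⟩ := hreg b ((g : G) • b) hab.symm
          (fun e3 => hab (smul_left_cancel (g : G) (hga.trans e3.symm)))
        have hmem : (u : G)⁻¹ * g ∈ stabilizer G a ⊓ stabilizer G b := by
          refine mem_inf.2 ⟨mul_mem (inv_mem (hle u.2)) g.2, ?_⟩
          show ((u : G)⁻¹ * g) • b = b
          rw [mul_smul, ← hu, inv_smul_smul]
        exact ⟨(u, ⟨_, hmem⟩), Subtype.ext (mul_inv_cancel_left _ _)⟩
    have := Nat.card_eq_of_bijective _ hbij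
    rw [Nat.card_prod, h.card_sylow, show Nat.card (stabilizer G a) = p ^ f * ((p ^ f - 1) / 2) by
      rw [hst, hN]] at this
    exact Nat.eq_of_mul_eq_mul_left (show 0 < p ^ f by omega) this
  obtain ⟨hcomm, -⟩ := S0738.result hZ hab (by rw [hΩ, htwo]; omega) (a : Subgroup G) hle hnorm hreg
  obtain ⟨K, _, _, -, hK, ⟨e⟩⟩ := Perm.Zassenhaus.psl_of_zass hZ
    (Perm.Zassenhaus.frame_of_zass hZ hab (a : Subgroup G) hle hnorm hcomm hreg)
    (by rw [hΩ, htwo]; omega)
  exact ⟨e.trans (Classical.SmallIso.pslCongr (FiniteField.ringEquivOfCardEq (by omega)))⟩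

theorem mem_sylow_of_normal {G : Type*} [Group G] (x : G) (hx : x ^ 2 = 1) (T : Sylow 2 G)
    (hn : (T : Subgroup G).Normal) : x ∈ (T : Subgroup G) := by
  haveI : Fact (Nat.Prime 2) := ⟨Nat.prime_two⟩
  refine Hyp.mem_of_smul_eq ?_ T (Sylow.smul_eq_iff_mem_normalizer.2 ?_)
  · rcases (Nat.dvd_prime Nat.prime_two).1 (orderOf_dvd_of_pow_eq_one hx) with h | h
    · exact ⟨0, h⟩
    · exact ⟨1, h⟩
  · have := Subgroup.normalizer_eq_top_iff.2 hn
    exact this ▸ mem_top _

theorem iso_of_two {G : Type*} [Group G] [Finite G] {F : Type*} [Field F] [Fintype F] {f : ℕ}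
    (hF : Fintype.card F = 2 ^ f) (h4 : 4 ≤ 2 ^ f)
    (hcard : Nat.card G = 2 ^ f * ((2 ^ f - 1) * (2 ^ f + 1)))
    (hord : ∀ x : G, orderOf x ∣ 2 ∨ orderOf x ∣ 2 ^ f - 1 ∨ orderOf x ∣ 2 ^ f + 1) :
    Nonempty (G ≃* Matrix.ProjectiveSpecialLinearGroup (Fin 2) F) := by
  classical
  haveI : Fact (Nat.Prime 2) := ⟨Nat.prime_two⟩
  haveI := Fintype.ofFinite G
  have hf : f ≠ 0 := by rintro rfl; norm_num at h4
  have hev : 2 ∣ 2 ^ f := dvd_pow_self 2 hf
  have hsq : ∀ g : G, ∀ k, orderOf g = 2 ^ k → g ^ 2 = 1 := by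
    intro g k hk
    rcases Nat.eq_zero_or_pos k with rfl | hk0
    · rw [pow_zero, orderOf_eq_one_iff] at hk; simp [hk]
    have h2 : 2 ∣ orderOf g := hk ▸ dvd_pow_self 2 hk0.ne'
    rcases hord g with h | h | h
    · exact orderOf_dvd_iff_pow_eq_one.1 h
    · have := h2.trans h; omega
    · have := h2.trans h; omega
  have hcom : ∀ t c : G, orderOf t = 2 → Commute t c → c ^ 2 = 1 := by
    intro t c ht hc
    obtain ⟨k, hk⟩ : ∃ k, orderOf c = 2 ^ k := ⟨_, Nat.eq_prime_pow_of_unique_prime_dvd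
      (orderOf_pos c).ne' fun {r} hr hd => by
        by_contra hne
        haveI := Fact.mk hr
        have ho : orderOf (c ^ (orderOf c / r)) = r := orderOf_pow_orderOf_div (orderOf_pos c).ne' hd
        have hcop : (2 : ℕ).Coprime r := (Nat.coprime_primes Nat.prime_two hr).2 (Ne.symm hne)
        have ho2 : orderOf (t * c ^ (orderOf c / r)) = 2 * r := by
          rw [(hc.pow_right _).orderOf_mul_eq_mul_orderOf_of_coprime (by rwa [ht, ho]), ht, ho]
        rcases hord (t * c ^ (orderOf c / r)) with h | h | h <;> rw [ho2] at h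
        · have := Nat.le_of_dvd two_pos h; have := hr.two_le; omega
        · have := (dvd_mul_right 2 r).trans h; omega
        · have := (dvd_mul_right 2 r).trans h; omega⟩
    exact hsq c k hk
  obtain ⟨T⟩ : Nonempty (Sylow 2 G) := inferInstance
  have hT : Nat.card (T : Subgroup G) = 2 ^ f := by
    refine T.card_eq_multiplicity.trans ?_
    have hm : ¬ 2 ∣ (2 ^ f - 1) * (2 ^ f + 1) := by
      rw [Nat.prime_two.dvd_mul]; omega
    rw [hcard, Nat.factorization_mul (pow_ne_zero _ two_ne_zero) (Nat.mul_ne_zero (by omega) (by omega))]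
    simp [Nat.prime_two.factorization_self, Nat.factorization_eq_zero_of_not_dvd hm]
  have hTsq : ∀ x ∈ (T : Subgroup G), x ^ 2 = 1 := by
    intro x hx
    obtain ⟨k, hk⟩ := IsPGroup.iff_orderOf.1 T.2 ⟨x, hx⟩
    rw [Subgroup.orderOf_mk] at hk
    exact hsq x k hk
  have hnc : ¬ IsCyclic (T : Subgroup G) := by
    intro hc
    obtain ⟨g, hg⟩ := hc.exists_generator
    have h1 := orderOf_eq_card_of_forall_mem_zpowers hg
    rw [← Subgroup.orderOf_coe, hT] at h1
    have := Nat.le_of_dvd two_pos (orderOf_dvd_of_pow_eq_one (hTsq g g.2))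
    omega
  have hnn : ¬ (T : Subgroup G).Normal := by
    intro hn
    obtain ⟨t, ht1⟩ : ∃ t : (T : Subgroup G), t ≠ 1 := by
      haveI : Nontrivial (T : Subgroup G) := Finite.one_lt_card_iff_nontrivial.1 (by omega)
      exact exists_ne 1
    have ho : orderOf (t : G) = 2 := orderOf_eq_prime (hTsq t t.2) fun e => ht1 (Subtype.ext e)
    -- at most `|T| - 1` conjugates of `t`, each centralised by at most `|T|` elements
    set U := (Finset.univ.filter fun y : G => y ∈ (T : Subgroup G)) with hU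
    have hUc : U.card = 2 ^ f := by
      rw [hU, ← Fintype.card_subtype, ← Nat.card_eq_fintype_card]; exact hT
    have h1 := Finset.card_le_mul_card_image_of_maps_to (s := (Finset.univ : Finset G))
      (t := U.erase 1) (f := fun y => y * (t : G) * y⁻¹) (fun y _ => by
        simp only [hU, Finset.mem_erase, Finset.mem_filter, Finset.mem_univ, true_and]
        exact ⟨fun e => ht1 (Subtype.ext (by simpa [mul_assoc] using congrArg (fun z => y⁻¹ * z * y) e)),
          hn.conj_mem t t.2 y⟩) (2 ^ f) (fun b _ => by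
        rcases (Finset.univ.filter fun y : G => y * (t : G) * y⁻¹ = b).eq_empty_or_nonempty with
          he | ⟨y₀, hy₀⟩
        · simp [he]
        rw [← hUc]
        refine Finset.card_le_card_of_injOn (fun y => y₀⁻¹ * y) ?_ (fun a _ c _ e => mul_left_cancel e)
        intro y hy
        simp only [hU, Finset.coe_filter, Finset.mem_filter, Finset.mem_univ, true_and,
          Set.mem_ofPred_eq] at hy hy₀ ⊢
        have hc : Commute (t : G) (y₀⁻¹ * y) := by
          have e : y₀⁻¹ * (y * (t : G) * y⁻¹) * y₀ = t := by rw [hy, ← hy₀]; group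
          show (t : G) * (y₀⁻¹ * y) = y₀⁻¹ * y * t
          conv_lhs => rw [← e]
          group
        have hx := hcom _ _ ho hc
        refine mem_sylow_of_normal (y₀⁻¹ * y) hx T hn)
    rw [Finset.card_univ, ← Nat.card_eq_fintype_card, hcard, Finset.card_erase_of_mem (by simp [hU]),
      hUc] at h1
    have h2 := Nat.le_of_mul_le_mul_left h1 (by omega)
    have h3 : (2 ^ f - 1) * 1 < (2 ^ f - 1) * (2 ^ f + 1) :=
      Nat.mul_lt_mul_of_pos_left (by omega) (by omega)
    omega
  have hC : ∀ t : G, orderOf t = 2 → IsMulCommutative (centralizer ({t} : Set G)) ∧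
      ∀ c ∈ centralizer ({t} : Set G), c ^ 2 = 1 := by
    intro t ht
    have hall : ∀ c ∈ centralizer ({t} : Set G), c ^ 2 = 1 := fun c hc =>
      hcom t c ht (mem_centralizer_singleton_iff.1 hc).symm
    refine ⟨⟨⟨fun x y => Subtype.ext ?_⟩⟩, hall⟩
    have hinv : ∀ z ∈ centralizer ({t} : Set G), z⁻¹ = z := fun z hz => by
      have := hall z hz
      rw [pow_two] at this
      exact inv_eq_of_mul_eq_one_right this
    show (x : G) * y = y * x
    rw [← hinv _ (mul_mem x.2 y.2), mul_inv_rev, hinv _ x.2, hinv _ y.2]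
  obtain ⟨K, _, _, hK, ⟨e⟩⟩ := S1230.result T hnc hnn hC
  exact ⟨e.trans (Classical.SmallIso.pslCongr (FiniteField.ringEquivOfCardEq (by omega)))⟩

theorem psl_two_by_order_and_spectrum {G : Type*} [Group G] [Finite G] {F : Type*} [Field F]
    [Fintype F] (hF : 3 < Fintype.card F)
    (hs : Set.range (orderOf : G → ℕ) =
      Set.range (orderOf : Matrix.ProjectiveSpecialLinearGroup (Fin 2) F → ℕ))
    (hc : Nat.card G = Nat.card (Matrix.ProjectiveSpecialLinearGroup (Fin 2) F)) :
    Nonempty (G ≃* Matrix.ProjectiveSpecialLinearGroup (Fin 2) F) := by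
  obtain ⟨p, hchar⟩ := CharP.exists F
  obtain ⟨⟨n, hn0⟩, hp, hn⟩ := FiniteField.card F p
  simp only [PNat.mk_coe] at hn
  haveI := Fact.mk hp
  have hr := PSL2Spectrum.range_orderOf_psl (F := F) (p := p) (n := n) hn hn0 (by omega)
  rw [← hs] at hr
  have hord : ∀ x : G, orderOf x ∣ p ∨ orderOf x ∣ PSL2Spectrum.half p (p ^ n - 1) ∨
      orderOf x ∣ PSL2Spectrum.half p (p ^ n + 1) := fun x => by
    have := Set.ext_iff.1 hr (orderOf x)
    exact this.1 ⟨x, rfl⟩
  have hmem : ∀ d, d ∣ PSL2Spectrum.half p (p ^ n - 1) ∨ d ∣ PSL2Spectrum.half p (p ^ n + 1) →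
      ∃ x : G, orderOf x = d := fun d hd => (Set.ext_iff.1 hr d).2 (Or.inr hd)
  have hcard := card_psl_two (F := F)
  rw [← hc, hn] at hcard
  by_cases h2 : p = 2
  · subst h2
    have hev : 2 ∣ 2 ^ n := dvd_pow_self 2 (by omega)
    have hg : Nat.gcd 2 (2 ^ n - 1) = 1 := Nat.prime_two.coprime_iff_not_dvd.2 (by omega)
    rw [hg, one_mul] at hcard
    simp only [PSL2Spectrum.half, if_pos] at hord
    exact iso_of_two hn (by omega) hcard hord
  · have hodd : Odd p := hp.odd_of_ne_two h2
    obtain ⟨k, hk⟩ := hodd.pow (n := n)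
    have hg : Nat.gcd 2 (p ^ n - 1) = 2 := Nat.gcd_eq_left ⟨k, by omega⟩
    rw [hg] at hcard
    simp only [PSL2Spectrum.half, if_neg h2] at hord hmem
    have h : Hyp G p n :=
      { prime := hp
        odd := hodd
        five := by omega
        card := by
          have e1 : p ^ n - 1 = 2 * ((p ^ n - 1) / 2) := by omega
          have e2 : p ^ n + 1 = 2 * ((p ^ n + 1) / 2) := by omega
          refine Nat.eq_of_mul_eq_mul_left two_pos (hcard.trans ?_)
          conv_lhs => rw [e1, e2]
          ring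
        orders := hord
        minus := hmem _ (Or.inl dvd_rfl)
        plus := hmem _ (Or.inr dvd_rfl) }
    exact iso_of_odd h hn

end Cfsg.Agent.PSLOrderSpectrum
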