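import Mathlib
import Cfsg.Agent.Lib.Coprime.FrobeniusPGroup
import Cfsg.Agent.Lib.Transfer.NormalPComplement

/-!
# Groups with the order and the element orders of `PSL₂(q)`, `q` odd: local facts
-/

set_option autoImplicit false

namespace Cfsg.Agent.PSLOrderSpectrum

open Subgroup

variable {G : Type*} [Group G] {p f : ℕ}

/-- The arithmetic hypotheses shared by `PSL₂(p ^ f)`. -/
structure Hyp (G : Type*) [Group G] (p f : ℕ) : Prop where
  prime : p.Prime
  odd : Odd p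
  five : 5 ≤ p ^ f
  card : Nat.card G = p ^ f * (2 * ((p ^ f - 1) / 2) * ((p ^ f + 1) / 2))
  orders : ∀ x : G, orderOf x ∣ p ∨ orderOf x ∣ (p ^ f - 1) / 2 ∨ orderOf x ∣ (p ^ f + 1) / 2
  minus : ∃ x : G, orderOf x = (p ^ f - 1) / 2
  plus : ∃ x : G, orderOf x = (p ^ f + 1) / 2

namespace Hyp

theorem arith (h : Hyp G p f) :
    2 * ((p ^ f - 1) / 2) = p ^ f - 1 ∧ 2 * ((p ^ f + 1) / 2) = p ^ f + 1 ∧ 1 ≤ f := by
  obtain ⟨k, hk⟩ := h.odd.pow (n := f)
  refine ⟨by omega, by omega, ?_⟩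
  rcases Nat.eq_zero_or_pos f with rfl | hf
  · have := h.five
    simp at this
  · exact hf

theorem coprime_halves (h : Hyp G p f) :
    ((p ^ f - 1) / 2).Coprime ((p ^ f + 1) / 2) := by
  obtain ⟨h1, h2, -⟩ := h.arith
  have := h.five
  rw [show (p ^ f + 1) / 2 = (p ^ f - 1) / 2 + 1 by omega]
  simp

theorem not_dvd_minus (h : Hyp G p f) : ¬ p ∣ (p ^ f - 1) / 2 := fun hd => by
  obtain ⟨h1, -, hf⟩ := h.arith
  have h3 : p ∣ p ^ f := dvd_pow_self p (by omega)
  have h4 : p ∣ p ^ f - 1 := h1 ▸ hd.mul_left 2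
  have h5 := Nat.dvd_sub h3 h4
  rw [show p ^ f - (p ^ f - 1) = 1 by have := h.five; omega] at h5
  exact h.prime.ne_one (Nat.dvd_one.1 h5)

theorem not_dvd_plus (h : Hyp G p f) : ¬ p ∣ (p ^ f + 1) / 2 := fun hd => by
  obtain ⟨-, h2, hf⟩ := h.arith
  have h3 : p ∣ p ^ f := dvd_pow_self p (by omega)
  have h4 : p ∣ p ^ f + 1 := h2 ▸ hd.mul_left 2
  exact h.prime.ne_one (Nat.dvd_one.1 ((Nat.dvd_add_right h3).1 h4))

theorem orderOf_dvd_p (h : Hyp G p f) {x : G} {k : ℕ} (hx : orderOf x = p ^ k) : orderOf x ∣ p := by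
  rcases Nat.eq_zero_or_pos k with rfl | hk
  · simp [hx]
  · rcases h.orders x with h' | h' | h'
    · exact h'
    · exact absurd ((dvd_pow_self p hk.ne').trans (hx ▸ h')) h.not_dvd_minus
    · exact absurd ((dvd_pow_self p hk.ne').trans (hx ▸ h')) h.not_dvd_plus

theorem pow_p_eq_one (h : Hyp G p f) {P : Subgroup G} (hP : IsPGroup p P) {x : G} (hx : x ∈ P) :
    x ^ p = 1 := by
  haveI := Fact.mk h.prime
  obtain ⟨k, hk⟩ := IsPGroup.iff_orderOf.1 hP ⟨x, hx⟩
  rw [Subgroup.orderOf_mk] at hk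
  exact orderOf_dvd_iff_pow_eq_one.1 (h.orderOf_dvd_p hk)

/-- No element of order prime to `p` commutes with an element of order `p`. -/
theorem eq_one_of_commute (h : Hyp G p f) {x y : G} (hx : x ^ p = 1) (hx1 : x ≠ 1)
    (hc : Commute x y) (hy : (orderOf y).Coprime p) : y = 1 := by
  haveI := Fact.mk h.prime
  have hox : orderOf x = p := orderOf_eq_prime hx hx1
  have ho : orderOf (x * y) = p * orderOf y := by
    rw [hc.orderOf_mul_eq_mul_orderOf_of_coprime (hox.symm ▸ hy.symm), hox]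
  rcases h.orders (x * y) with h' | h' | h' <;> rw [ho] at h'
  · refine orderOf_eq_one_iff.1 (Nat.dvd_one.1 ?_)
    exact (Nat.mul_dvd_mul_iff_left h.prime.pos).1 (by simpa using h')
  · exact absurd ((dvd_mul_right _ _).trans h') h.not_dvd_minus
  · exact absurd ((dvd_mul_right _ _).trans h') h.not_dvd_plus

theorem exists_coprime_part [Finite G] (h : Hyp G p f) {y : G} (hy : ¬ ∃ k, orderOf y = p ^ k) :
    ∃ j : ℕ, y ^ j ≠ 1 ∧ (orderOf (y ^ j)).Coprime p := by
  by_contra hcon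
  push Not at hcon
  refine hy ⟨_, Nat.eq_prime_pow_of_unique_prime_dvd (orderOf_pos y).ne' fun {r} hr hd => ?_⟩
  by_contra hne
  haveI := Fact.mk hr
  have ho : orderOf (y ^ (orderOf y / r)) = r :=
    orderOf_pow_orderOf_div (orderOf_pos y).ne' hd
  refine hcon (orderOf y / r) (fun e => ?_) (ho.symm ▸ (Nat.coprime_primes hr h.prime).2 hne)
  rw [e, orderOf_one] at ho
  exact hr.ne_one ho.symm

/-- The centraliser of an element of order `p` consists of `p`-elements. -/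
theorem pPow_of_commute [Finite G] (h : Hyp G p f) {x y : G} (hx : x ^ p = 1) (hx1 : x ≠ 1)
    (hc : Commute x y) : ∃ k, orderOf y = p ^ k := by
  by_contra hy
  obtain ⟨j, hj1, hj⟩ := h.exists_coprime_part hy
  exact hj1 (h.eq_one_of_commute hx hx1 (hc.pow_right j) hj)

theorem exists_ne_one {D : Subgroup G} (hne : D ≠ ⊥) : ∃ d ∈ D, d ≠ 1 := by
  obtain ⟨d, hd⟩ := Subgroup.ne_bot_iff_exists_ne_one.1 hne
  exact ⟨d, d.2, fun e => hd (Subtype.ext e)⟩

theorem isPGroup_centralizer [Finite G] (h : Hyp G p f) {D : Subgroup G} (hD : IsPGroup p D)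
    (hne : D ≠ ⊥) : IsPGroup p (centralizer (D : Set G)) := by
  haveI := Fact.mk h.prime
  obtain ⟨d, hd, hd1⟩ := exists_ne_one hne
  rw [IsPGroup.iff_orderOf]
  intro y
  obtain ⟨k, hk⟩ := h.pPow_of_commute (h.pow_p_eq_one hD hd) hd1
    (mem_centralizer_iff.1 y.2 d hd)
  exact ⟨k, by rwa [← Subgroup.orderOf_coe]⟩

/-- A `p`-element normalising a Sylow `p`-subgroup lies in it. -/
theorem mem_of_smul_eq {g : G} (hg : ∃ k, orderOf g = p ^ k) (S : Sylow p G) (hfix : g • S = S) :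
    g ∈ (S : Subgroup G) := by
  obtain ⟨k, hk⟩ := hg
  have hp : IsPGroup p (zpowers g) := IsPGroup.of_card (n := k) (by rw [Nat.card_zpowers, hk])
  have h2 : zpowers g ⊔ (S : Subgroup G) = (S : Subgroup G) :=
    S.3 (IsPGroup.to_sup_of_normal_right' hp S.2
      (zpowers_le.2 (Sylow.smul_eq_iff_mem_normalizer.1 hfix))) le_sup_right
  exact h2 ▸ mem_sup_left (mem_zpowers _)

/-- For odd primes `r ≠ p` the `r`-subgroups are cyclic. -/
theorem isCyclic_rGroup [Finite G] (h : Hyp G p f) {r : ℕ} (hr : r.Prime) (hr2 : r ≠ 2)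
    (hrp : r ≠ p) {R : Subgroup G} (hR : IsPGroup r R) : IsCyclic R := by
  haveI := Fact.mk hr
  obtain ⟨T, hT⟩ := hR.exists_le_sylow
  suffices IsCyclic (T : Subgroup G) by
    exact isCyclic_of_injective (inclusion hT) (inclusion_injective hT)
  obtain ⟨a, ha⟩ := IsPGroup.iff_card.1 T.2
  have hd : r ^ a ∣ (p ^ f - 1) / 2 * ((p ^ f + 1) / 2) := by
    have h1 : r ^ a ∣ p ^ f * (2 * ((p ^ f - 1) / 2) * ((p ^ f + 1) / 2)) :=
      h.card ▸ ha ▸ (T : Subgroup G).card_subgroup_dvd_card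
    have h2 : (r ^ a).Coprime (p ^ f) := Nat.Coprime.pow _ _ ((Nat.coprime_primes hr h.prime).2 hrp)
    have h3 := h2.dvd_of_dvd_mul_left h1
    rw [mul_assoc] at h3
    exact (Nat.Coprime.pow_left _ ((Nat.coprime_primes hr Nat.prime_two).2 hr2)).dvd_of_dvd_mul_left h3
  have hsplit : r ^ a ∣ (p ^ f - 1) / 2 ∨ r ^ a ∣ (p ^ f + 1) / 2 := by
    by_cases h1 : r ∣ (p ^ f - 1) / 2
    · exact Or.inl ((Nat.Coprime.pow_left _ (Nat.Coprime.coprime_dvd_left h1
        h.coprime_halves)).dvd_of_dvd_mul_right hd)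
    · exact Or.inr ((Nat.Coprime.pow_left _ (hr.coprime_iff_not_dvd.2 h1)).dvd_of_dvd_mul_left hd)
  obtain ⟨x, hx⟩ : ∃ x : G, orderOf x = r ^ a := by
    rcases hsplit with h' | h'
    · obtain ⟨x, hx⟩ := h.minus
      rw [← hx] at h'
      exact ⟨_, orderOf_pow_orderOf_div (orderOf_pos x).ne' h'⟩
    · obtain ⟨x, hx⟩ := h.plus
      rw [← hx] at h'
      exact ⟨_, orderOf_pow_orderOf_div (orderOf_pos x).ne' h'⟩
  obtain ⟨U, hU⟩ := (IsPGroup.of_card (n := a) (by rw [Nat.card_zpowers, hx]) :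
    IsPGroup r (zpowers x)).exists_le_sylow
  have hUc : Nat.card (U : Subgroup G) = r ^ a := by
    rw [← ha]; exact Nat.card_congr (U.equiv T).toEquiv
  have hUx : zpowers x = (U : Subgroup G) :=
    eq_of_le_of_card_ge hU (by rw [Nat.card_zpowers, hx, hUc])
  haveI : IsCyclic (U : Subgroup G) := hUx ▸ inferInstance
  exact isCyclic_of_surjective (U.equiv T).toMonoidHom (U.equiv T).surjective

end Hyp

end Cfsg.Agent.PSLOrderSpectrum
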