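import Cfsg.Agent.Lib.PSLOrderSpectrum.Basic

/-!
# No `p`-element normalises a `p'`-subgroup of the normaliser of a `p`-subgroup
-/

set_option autoImplicit false

namespace Cfsg.Agent.PSLOrderSpectrum

open Subgroup

variable {G : Type*} [Group G] {p f : ℕ}

theorem Hyp.eq_bot_of_normalized [Finite G] (h : Hyp G p f) {D R : Subgroup G}
    (hD : IsPGroup p D) (hDne : D ≠ ⊥) (hR : R ≤ normalizer (D : Set G))
    (hRc : (Nat.card R).Coprime p) {y : G} (hyD : y ∈ normalizer (D : Set G))
    (hyR : ∀ r ∈ R, y * r * y⁻¹ ∈ R) (hy : ∃ k, orderOf y = p ^ k) (hy1 : y ≠ 1) : R = ⊥ := by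
  classical
  haveI := Fact.mk h.prime
  by_contra hRne
  obtain ⟨k, hk⟩ := hy
  have hyp : y ^ p = 1 := orderOf_dvd_iff_pow_eq_one.1 (h.orderOf_dvd_p hk)
  have hcop : ∀ r ∈ R, (orderOf r).Coprime p := fun r hr =>
    hRc.coprime_dvd_left (Subgroup.orderOf_dvd_natCard R hr)
  -- the centre of `D`, inside the normaliser of `D`
  let M := normalizer (D : Set G)
  let W : Subgroup G := (center D).map D.subtype
  have hWD : W ≤ D := map_subtype_le _
  have hWcomm : ∀ a ∈ W, ∀ b ∈ W, a * b = b * a := by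
    rintro _ ⟨a, ha, rfl⟩ _ ⟨b, -, rfl⟩
    exact congrArg Subtype.val ((mem_center_iff.1 ha b).symm)
  haveI : IsMulCommutative W := ⟨⟨fun a b => Subtype.ext (hWcomm a a.2 b b.2)⟩⟩
  have hWne : W ≠ ⊥ := by
    haveI : Nontrivial D := (nontrivial_iff_ne_bot _).2 hDne
    haveI : Nontrivial (center D) := hD.center_nontrivial
    intro e
    obtain ⟨z, hz⟩ := exists_ne (1 : center D)
    have : ((z : D) : G) ∈ W := ⟨z, z.2, rfl⟩
    rw [e, mem_bot] at this
    exact hz (Subtype.ext (Subtype.ext this))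
  have hMW : M ≤ normalizer (W : Set G) := by
    intro g hg
    rw [mem_normalizer_iff]
    have key : ∀ g ∈ M, ∀ w ∈ W, g * w * g⁻¹ ∈ W := by
      rintro g hg _ ⟨a, ha, rfl⟩
      have hgd : g * a * g⁻¹ ∈ D := (mem_normalizer_iff.1 hg a).1 a.2
      refine ⟨⟨_, hgd⟩, mem_center_iff.2 fun b => Subtype.ext ?_, rfl⟩
      have hb : g⁻¹ * b * g⁻¹⁻¹ ∈ D := (mem_normalizer_iff.1 (inv_mem hg) b).1 b.2
      have := congrArg Subtype.val (mem_center_iff.1 ha ⟨_, hb⟩)
      simp only [Subgroup.coe_mul, inv_inv] at this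
      calc (b : G) * (g * a * g⁻¹) = g * ((g⁻¹ * b * g) * a) * g⁻¹ := by group
        _ = g * (a * (g⁻¹ * b * g)) * g⁻¹ := by rw [this]
        _ = g * a * g⁻¹ * b := by group
    intro w
    refine ⟨key g hg w, fun hw => ?_⟩
    have := key g⁻¹ (inv_mem hg) _ hw
    simpa [mul_assoc] using this
  letI : CommGroup W := { (inferInstance : Group W) with mul_comm := fun a b => Subtype.ext (hWcomm a a.2 b b.2) }
  let ψ : M →* MulAut W := (normalizerMonoidHom W).comp (inclusion hMW)
  have hψ : ∀ (m : M) (w : W), ((ψ m w : W) : G) = (m : G) * w * (m : G)⁻¹ := fun m w => rfl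
  have hfix : ∀ (m : M) (w : W), (orderOf (m : G)).Coprime p → (m : G) ≠ 1 → ψ m w = w → w = 1 := by
    intro m w hm hm1 he
    by_contra hw
    have hc : Commute (w : G) (m : G) := by
      have := congrArg Subtype.val he
      rw [hψ, mul_inv_eq_iff_eq_mul] at this
      exact this.symm
    exact hm1 (h.eq_one_of_commute (h.pow_p_eq_one hD (hWD w.2)) (fun e => hw (Subtype.ext e)) hc hm)
  let b : M := ⟨y, hyD⟩
  have hWp : IsPGroup p W := hD.to_le hWD
  obtain ⟨r₀, hr₀, hr₀1⟩ := Hyp.exists_ne_one hRne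
  have main : ∀ w : W, w ∈ (⊥ : Subgroup W) := fun w =>
    Coprime.FrobeniusPGroup.mem_of_norms (p := p) ψ (R.subgroupOf M) b
      (Subtype.ext (by simpa using hyp))
      (fun r hr => by rw [mem_subgroupOf] at hr ⊢; simpa using hyR _ hr)
      (fun r hr hc => by
        rw [mem_subgroupOf] at hr
        exact Subtype.ext (h.eq_one_of_commute hyp hy1 (congrArg Subtype.val hc) (hcop _ hr)))
      (by
        rw [Nat.card_congr (subgroupOfEquivOfLe hR).toEquiv]
        obtain ⟨n, hn⟩ := IsPGroup.iff_card.1 hWp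
        rw [hn]
        exact hRc.pow_right n)
      ⊥
      (fun r _ w hw => by rw [mem_bot] at hw ⊢; rw [hw, map_one])
      (fun w => by
        rw [mem_bot]
        -- the norm is `(w * y) ^ p`
        have hprod : ∀ n : ℕ, (((∏ i ∈ Finset.range n, ψ (b ^ i) w : W)) : G) * y ^ n =
            ((w : G) * y) ^ n := by
          intro n
          induction n with
          | zero => simp
          | succ n ih =>
            rw [Finset.prod_range_succ, pow_succ ((w : G) * y), ← ih, Subgroup.coe_mul, hψ]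
            simp only [SubmonoidClass.coe_pow, pow_succ y, b]
            group
        have hP : IsPGroup p (zpowers y ⊔ W : Subgroup G) :=
          IsPGroup.to_sup_of_normal_right' (IsPGroup.of_card (n := k) (by rw [Nat.card_zpowers, hk]))
            hWp (zpowers_le.2 (hMW hyD))
        have hwy := h.pow_p_eq_one hP (mul_mem (mem_sup_right w.2) (mem_sup_left (mem_zpowers y)))
        have := hprod p
        rw [hwy, hyp, mul_one] at this
        exact Subtype.ext this)
      (fun w hw => hfix ⟨r₀, hR hr₀⟩ w (hcop _ hr₀) hr₀1 (hw _ (mem_subgroupOf.2 hr₀)))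
      w
  exact hWne ((eq_bot_iff_forall _).2 fun w hw => congrArg Subtype.val (mem_bot.1 (main ⟨w, hw⟩)))

end Cfsg.Agent.PSLOrderSpectrum
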