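import Cfsg.Agent.Lib.PSLOrderSpectrum.NoFrob

/-!
# The Sylow `p`-subgroups meet trivially
-/

set_option autoImplicit false

namespace Cfsg.Agent.PSLOrderSpectrum

open Subgroup

variable {G : Type*} [Group G] {p f : ℕ}

/-- In the normaliser of a `p`-subgroup, a subgroup of odd order has all its `p`-elements in an
invariant `p`-subgroup. -/
theorem Hyp.exists_invariant_of_odd [Finite G] (h : Hyp G p f) {D : Subgroup G}
    (hD : IsPGroup p D) (hDne : D ≠ ⊥) :
    ∀ (n : ℕ) (X : Subgroup G), Nat.card X = n → X ≤ normalizer (D : Set G) → Odd n →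
      ∃ Q : Subgroup G, Q ≤ X ∧ IsPGroup p Q ∧ (∀ g ∈ X, ∀ q ∈ Q, g * q * g⁻¹ ∈ Q) ∧
        ∀ g ∈ X, (∃ k, orderOf g = p ^ k) → g ∈ Q := by
  haveI := Fact.mk h.prime
  intro n
  induction n using Nat.strong_induction_on with
  | _ n ih =>
    intro X hX hXD hodd
    by_cases hs : ∃ r, r.Prime ∧ r ∣ n ∧ r ≠ p
    swap
    · push Not at hs
      have hXp : IsPGroup p X := IsPGroup.of_card (n := n.primeFactorsList.length)
        (hX.trans (Nat.eq_prime_pow_of_unique_prime_dvd (by subst hX; exact Nat.card_pos.ne')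
          fun {r} hr hd => hs r hr hd))
      exact ⟨X, le_rfl, hXp, fun g hg q hq => mul_mem (mul_mem hg hq) (inv_mem hg),
        fun g hg _ => hg⟩
    classical
    obtain ⟨hr, hrn, hrp⟩ := Nat.find_spec hs
    have hmin : ∀ s, s.Prime → s ∣ n → s ≠ p → Nat.find hs ≤ s := fun s h1 h2 h3 =>
      Nat.find_min' hs ⟨h1, h2, h3⟩
    generalize hrdef : Nat.find hs = r at hr hrn hrp hmin
    haveI := Fact.mk hr
    have hr2 : r ≠ 2 := by
      rintro rfl
      exact (Nat.not_even_iff_odd.2 hodd) (even_iff_two_dvd.2 hrn)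
    obtain ⟨R⟩ : Nonempty (Sylow r X) := inferInstance
    have hR'p : IsPGroup r ((R : Subgroup X).map X.subtype) := R.2.map _
    haveI : IsCyclic ((R : Subgroup X).map X.subtype) := h.isCyclic_rGroup hr hr2 hrp hR'p
    haveI hRc : IsCyclic (R : Subgroup X) := by
      let e := (R : Subgroup X).equivMapOfInjective X.subtype X.subtype_injective
      exact isCyclic_of_surjective e.symm.toMonoidHom e.symm.surjective
    obtain ⟨a, ha⟩ := IsPGroup.iff_card.1 R.2
    have ha0 : 0 < a := by
      rcases Nat.eq_zero_or_pos a with rfl | h0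
      · exact absurd (hX ▸ hrn) (by
          have := R.not_dvd_index
          rw [← (R : Subgroup X).card_mul_index, ha, pow_zero, one_mul]
          exact this)
      · exact h0
    -- `p` does not divide the order of the normaliser
    set N := normalizer ((R : Subgroup X) : Set X) with hN
    have hpN : ¬ p ∣ Nat.card N := by
      intro hd
      obtain ⟨y, hy⟩ := exists_prime_orderOf_dvd_card' p hd
      rw [← Subgroup.orderOf_coe, ← Subgroup.orderOf_coe] at hy
      have hbot := h.eq_bot_of_normalized hD hDne (R := (R : Subgroup X).map X.subtype)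
        (fun x hx => by obtain ⟨x, -, rfl⟩ := hx; exact hXD x.2)
        (by
          rw [Nat.card_congr ((R : Subgroup X).equivMapOfInjective X.subtype
            X.subtype_injective).symm.toEquiv, ha]
          exact Nat.Coprime.pow_left _ ((Nat.coprime_primes hr h.prime).2 hrp))
        (y := ((y : X) : G)) (hXD (y : X).2)
        (by
          rintro _ ⟨x, hx, rfl⟩
          exact ⟨(y : X) * x * (y : X)⁻¹, (mem_normalizer_iff.1 y.2 x).1 hx, rfl⟩)
        ⟨1, by rw [pow_one, hy]⟩
        (fun e => by rw [e, orderOf_one] at hy; exact h.prime.ne_one hy.symm)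
      have : Nat.card ((R : Subgroup X).map X.subtype) = 1 := by rw [hbot, card_bot]
      rw [Nat.card_congr ((R : Subgroup X).equivMapOfInjective X.subtype
        X.subtype_injective).symm.toEquiv, ha] at this
      exact hr.ne_one ((Nat.pow_eq_one.1 this).resolve_right ha0.ne')
    have hNC : N ≤ centralizer ((R : Subgroup X) : Set X) := by
      have key := card_dvd_of_injective _
        (QuotientGroup.kerLift_injective (R : Subgroup X).normalizerMonoidHom)
      rw [normalizerMonoidHom_ker, ← index, ← relIndex, hRc.card_mulAut, ha,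
        Nat.totient_prime_pow hr ha0] at key
      haveI : IsMulCommutative (R : Subgroup X) := inferInstance
      have hcop : ((centralizer ((R : Subgroup X) : Set X)).relIndex N).Coprime r := by
        apply Nat.Coprime.coprime_dvd_left (relIndex_dvd_of_le_left _ (le_centralizer (R : Subgroup X)))
        apply Nat.Coprime.coprime_dvd_left (relIndex_dvd_index_of_le le_normalizer)
        rw [Nat.coprime_comm, hr.coprime_iff_not_dvd]
        exact R.not_dvd_index
      have k2 := (hcop.pow_right (a - 1)).dvd_of_dvd_mul_left key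
      refine relIndex_eq_one.1 ?_
      by_contra hne
      obtain ⟨s, hs', hsd⟩ := Nat.exists_prime_and_dvd hne
      have hsN : s ∣ Nat.card N := hsd.trans (relIndex_dvd_card _ _)
      have h1 : r ≤ s := hmin s hs' (hX ▸ hsN.trans (card_subgroup_dvd_card _))
        (fun e => hpN (e ▸ hsN))
      have h2 : s ≤ r - 1 := Nat.le_of_dvd (by have := hr.two_le; omega) (hsd.trans k2)
      have := hr.two_le
      omega
    obtain ⟨P, K, hKn, hKc⟩ :=
      Transfer.NormalPComplement.hasNormalPComplement_of_normalizer_le_centralizer R hNC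
    have hKlt : Nat.card (K.map X.subtype) < n := by
      rw [Nat.card_congr (K.equivMapOfInjective X.subtype X.subtype_injective).symm.toEquiv, ← hX,
        ← hKc.card_mul]
      refine lt_mul_of_one_lt_right Nat.card_pos ?_
      rw [Nat.card_congr (P.equiv R).toEquiv, ha]
      exact Nat.one_lt_pow ha0.ne' hr.one_lt
    have hKle : K.map X.subtype ≤ X := map_subtype_le _
    obtain ⟨Q, hQK, hQp, -, hQall⟩ := ih _ hKlt _ rfl (hKle.trans hXD)
      (hodd.of_dvd_nat (hX ▸ card_dvd_of_le hKle))
    have hin : ∀ g ∈ X, (∃ k, orderOf g = p ^ k) → g ∈ K.map X.subtype := by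
      intro g hg hgk
      obtain ⟨k, hk⟩ := hgk
      refine ⟨⟨g, hg⟩, (QuotientGroup.eq_one_iff _).1 (orderOf_eq_one_iff.1 ?_), rfl⟩
      have h1 : orderOf (QuotientGroup.mk (s := K) (⟨g, hg⟩ : X)) ∣ p ^ k := by
        have := orderOf_map_dvd (QuotientGroup.mk' K) (⟨g, hg⟩ : X)
        rwa [Subgroup.orderOf_mk, hk] at this
      obtain ⟨c, hc⟩ := IsPGroup.iff_card.1 P.2
      have h2 : orderOf (QuotientGroup.mk (s := K) (⟨g, hg⟩ : X)) ∣ r ^ c :=
        (_root_.orderOf_dvd_natCard _).trans (by rw [← index, hKc.symm.index_eq_card, hc])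
      exact Nat.eq_one_of_dvd_coprimes
        (Nat.Coprime.pow k c ((Nat.coprime_primes h.prime hr).2 (Ne.symm hrp))) h1 h2
    refine ⟨Q, hQK.trans hKle, hQp, fun g hg q hq => ?_, fun g hg hgk => hQall g (hin g hg hgk) hgk⟩
    obtain ⟨k, hk⟩ := IsPGroup.iff_orderOf.1 hQp ⟨q, hq⟩
    rw [Subgroup.orderOf_mk] at hk
    have hk' : orderOf (g * q * g⁻¹) = p ^ k := by
      rw [← MulAut.conj_apply, MulEquiv.orderOf_eq, hk]
    exact hQall _ (hin _ (mul_mem (mul_mem hg (hKle (hQK hq))) (inv_mem hg)) ⟨k, hk'⟩) ⟨k, hk'⟩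

/-- Two distinct Sylow `p`-subgroups meet trivially. -/
theorem Hyp.sylow_ti [Finite G] (h : Hyp G p f) {S R : Sylow p G} (hne : S ≠ R) :
    (S : Subgroup G) ⊓ (R : Subgroup G) = ⊥ := by
  classical
  haveI := Fact.mk h.prime
  by_contra hbot
  let C := {x : Sylow p G × Sylow p G //
    x.1 ≠ x.2 ∧ (x.1 : Subgroup G) ⊓ (x.2 : Subgroup G) ≠ ⊥}
  haveI : Fintype C := Fintype.ofFinite _
  haveI : Nonempty C := ⟨⟨(S, R), hne, hbot⟩⟩
  obtain ⟨⟨⟨A, B⟩, hAB, hDne⟩, -, hmax⟩ := Finset.exists_max_image (Finset.univ : Finset C)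
    (fun x => Nat.card ↥((x.1.1 : Subgroup G) ⊓ (x.1.2 : Subgroup G))) Finset.univ_nonempty
  set D := (A : Subgroup G) ⊓ (B : Subgroup G) with hDdef
  have hDp : IsPGroup p D := A.2.to_le inf_le_left
  set M := normalizer (D : Set G) with hMdef
  have hgrow : ∀ T : Sylow p G, D ≤ T → (D = (T : Subgroup G) → False) →
      D < (T : Subgroup G) ⊓ M := by
    intro T hle hneq
    have hDT : D < T := lt_of_le_of_ne hle hneq
    refine lt_of_le_of_ne (le_inf hle le_normalizer) fun heq => ?_
    haveI : Group.IsNilpotent (T : Subgroup G) := T.2.isNilpotent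
    have hlt : D.subgroupOf T < ⊤ := by
      rw [lt_top_iff_ne_top, Ne, subgroupOf_eq_top]
      exact hDT.not_ge
    refine (Group.normalizerCondition_of_isNilpotent _ hlt).not_ge fun x hx => ?_
    rw [← subgroupOf_normalizer_eq hle] at hx
    rw [mem_subgroupOf] at hx ⊢
    rw [heq]
    exact ⟨x.2, hx⟩
  have hnA : D ≠ (A : Subgroup G) := fun e => hAB (Sylow.ext (((A : Sylow p G).3 B.2
    (e ▸ inf_le_right)).symm))
  have hnB : D ≠ (B : Subgroup G) := fun e => hAB (Sylow.ext ((B : Sylow p G).3 A.2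
    (e ▸ inf_le_left)))
  have hA1 := hgrow A inf_le_left hnA
  have hB1 := hgrow B inf_le_right hnB
  -- a `p`-subgroup normalised by `M` lies in `D`
  have hcore : ∀ Q : Subgroup G, IsPGroup p Q → (∀ g ∈ M, ∀ q ∈ Q, g * q * g⁻¹ ∈ Q) → Q ≤ D := by
    intro Q hQp hQM
    have key : ∀ T : Sylow p G, D < (T : Subgroup G) ⊓ M → Q ≤ T := by
      intro T hT
      have hnorm : (T : Subgroup G) ⊓ M ≤ normalizer (Q : Set G) := fun g hg => by
        rw [mem_normalizer_iff]
        refine fun q => ⟨hQM g hg.2 q, fun hq => ?_⟩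
        have := hQM g⁻¹ (inv_mem hg.2) _ hq
        simpa [mul_assoc] using this
      obtain ⟨T', hT'⟩ := (IsPGroup.to_sup_of_normal_right' (T.2.to_le inf_le_left) hQp
        hnorm).exists_le_sylow
      have : T' = T := by
        by_contra hne'
        have hle : (T : Subgroup G) ⊓ M ≤ (T' : Subgroup G) ⊓ (T : Subgroup G) :=
          le_inf (le_sup_left.trans hT') inf_le_left
        have hlt : D < (T' : Subgroup G) ⊓ (T : Subgroup G) := lt_of_lt_of_le hT hle
        have h1 := hmax ⟨(T', T), hne', fun e => by rw [e] at hlt; exact not_lt_bot hlt⟩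
          (Finset.mem_univ _)
        exact hlt.ne (eq_of_le_of_card_ge hlt.le h1)
      exact this ▸ le_sup_right.trans hT'
    exact le_inf (key A hA1) (key B hB1)
  have hCD : centralizer (D : Set G) ≤ D :=
    hcore _ (h.isPGroup_centralizer hDp hDne) fun g hg q hq => by
      rw [mem_centralizer_iff] at hq ⊢
      intro d hd
      have hd' := hq (g⁻¹ * d * g) (by
        have := (mem_normalizer_iff.1 (inv_mem hg) d).1 hd
        rwa [inv_inv] at this)
      calc d * (g * q * g⁻¹) = g * (g⁻¹ * d * g * q) * g⁻¹ := by group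
        _ = g * (q * (g⁻¹ * d * g)) * g⁻¹ := by rw [hd']
        _ = g * q * g⁻¹ * d := by group
  obtain ⟨y, hy, hyD⟩ : ∃ y ∈ (A : Subgroup G) ⊓ M, y ∉ D := SetLike.exists_of_lt hA1
  obtain ⟨ky, hky⟩ : ∃ k, orderOf y = p ^ k := by
    obtain ⟨k, hk⟩ := IsPGroup.iff_orderOf.1 A.2 ⟨y, hy.1⟩
    exact ⟨k, by rwa [Subgroup.orderOf_mk] at hk⟩
  rcases Nat.even_or_odd (Nat.card M) with hev | hodd
  · obtain ⟨⟨t, htM⟩, ht⟩ := exists_prime_orderOf_dvd_card' (G := M) 2 (even_iff_two_dvd.1 hev)
    rw [Subgroup.orderOf_mk] at ht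
    have htt : t * t = 1 := by rw [← pow_two, ← ht, pow_orderOf_eq_one]
    have htinv : t⁻¹ = t := inv_eq_of_mul_eq_one_right htt
    have hp2 : (orderOf t).Coprime p := by
      rw [ht, Nat.coprime_two_left]; exact h.odd
    have ht1 : t ≠ 1 := fun e => by simp [e] at ht
    let φ : D →* D := (D.normalizerMonoidHom ⟨t, htM⟩).toMonoidHom
    have hφ : ∀ d : D, ((φ d : D) : G) = t * d * t⁻¹ := fun d => rfl
    have hfp : MonoidHom.FixedPointFree φ := fun d hd => by
      by_contra hd1
      have e : Commute (d : G) t := by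
        have := congrArg Subtype.val hd
        rw [hφ, mul_inv_eq_iff_eq_mul] at this
        exact this.symm
      exact ht1 (h.eq_one_of_commute (h.pow_p_eq_one hDp d.2) (fun e' => hd1 (Subtype.ext e')) e hp2)
    have hinvol : Function.Involutive φ := fun d => Subtype.ext (by
      rw [hφ, hφ, htinv]
      calc t * (t * d * t) * t = t * t * d * (t * t) := by group
        _ = d := by rw [htt, one_mul, mul_one])
    have hinv : ∀ d ∈ D, t * d * t⁻¹ = d⁻¹ := fun d hd => by
      have := congrArg Subtype.val (congrFun (hfp.coe_eq_inv_of_involutive hinvol) ⟨d, hd⟩)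
      rwa [hφ] at this
    have hinv' : ∀ d ∈ D, y * t * y⁻¹ * d * (y * t * y⁻¹)⁻¹ = d⁻¹ := fun d hd => by
      have h1 : y⁻¹ * d * y ∈ D := by
        have := (mem_normalizer_iff.1 (inv_mem hy.2) d).1 hd
        rwa [inv_inv] at this
      calc y * t * y⁻¹ * d * (y * t * y⁻¹)⁻¹ = y * (t * (y⁻¹ * d * y) * t⁻¹) * y⁻¹ := by group
        _ = d⁻¹ := by rw [hinv _ h1]; group
    set c := t * (y * t * y⁻¹) with hc
    have hcD : c ∈ D := hCD (mem_centralizer_iff.2 fun d hd => by
      have h1 : c * d * c⁻¹ = d := by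
        calc c * d * c⁻¹ = t * (y * t * y⁻¹ * d * (y * t * y⁻¹)⁻¹) * t⁻¹ := by rw [hc]; group
          _ = d := by rw [hinv' d hd, hinv _ (inv_mem hd), inv_inv]
      exact (mul_inv_eq_iff_eq_mul.1 h1).symm)
    set e := c ^ ((p + 1) / 2) with he
    have heD : e ∈ D := pow_mem hcD _
    have hee : e * e = c := by
      rw [he, ← pow_add]
      obtain ⟨m, hm⟩ := h.odd
      rw [show (p + 1) / 2 + (p + 1) / 2 = p + 1 by omega, pow_succ, h.pow_p_eq_one hDp hcD, one_mul]
    have hyt : y * t * y⁻¹ = t * c := by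
      rw [hc, ← mul_assoc t t, htt, one_mul]
    have hte : t * e = e⁻¹ * t := by
      rw [← hinv e heD]; group
    have hcomm : Commute (e * y) t := by
      have h1 : e * y * t = e * (y * t * y⁻¹) * y := by group
      show e * y * t = t * (e * y)
      rw [h1, hyt, ← hee]
      have h2 : e * t = t * e⁻¹ := by
        rw [← hinv e heD, htinv, ← mul_assoc, ← mul_assoc, htt, one_mul]
      calc e * (t * (e * e)) * y = (e * t) * (e * e) * y := by group
        _ = t * (e * y) := by rw [h2]; group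
    have heyA : e * y ∈ (A : Subgroup G) := mul_mem (inf_le_left (a := (A : Subgroup G)) heD) hy.1
    refine ht1 (h.eq_one_of_commute (h.pow_p_eq_one A.2 heyA) (fun e' => hyD ?_) hcomm hp2)
    rw [mul_eq_one_iff_eq_inv'.1 e']
    exact inv_mem heD
  · obtain ⟨Q, -, hQp, hQinv, hQall⟩ := h.exists_invariant_of_odd hDp hDne _ M rfl le_rfl hodd
    exact hyD (hcore Q hQp hQinv (hQall y hy.2 ⟨ky, hky⟩))

end Cfsg.Agent.PSLOrderSpectrum
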