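import Cfsg.Prelude.Def_LieExceptional
import Cfsg.Agent.Lib.PSLOrderSpectrum.TI
import Cfsg.Agent.Lib.SmallSimple.EvenPSL

/-!
# The action on the Sylow `p`-subgroups
-/

set_option autoImplicit false

namespace Cfsg.Agent.PSLOrderSpectrum

open Subgroup MulAction
open scoped Pointwise

variable {G : Type*} [Group G] {p f : ℕ}

namespace Hyp

theorem card_sylow [Finite G] (h : Hyp G p f) (S : Sylow p G) :
    Nat.card (S : Subgroup G) = p ^ f := by
  haveI := Fact.mk h.prime
  refine (S.card_eq_multiplicity).trans ?_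
  rw [h.card]
  obtain ⟨h1, h2, -⟩ := h.arith
  have h5 := h.five
  have hm : ¬ p ∣ 2 * ((p ^ f - 1) / 2) * ((p ^ f + 1) / 2) := by
    rw [h.prime.dvd_mul, h.prime.dvd_mul]
    rintro ((hd | hd) | hd)
    · exact (Nat.not_even_iff_odd.2 h.odd) (even_iff_two_dvd.2
        ((Nat.prime_dvd_prime_iff_eq h.prime Nat.prime_two).1 hd ▸ dvd_rfl))
    · exact h.not_dvd_minus hd
    · exact h.not_dvd_plus hd
  have hm0 : 2 * ((p ^ f - 1) / 2) * ((p ^ f + 1) / 2) ≠ 0 :=
    Nat.mul_ne_zero (by omega) (by omega)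
  rw [Nat.factorization_mul (pow_ne_zero _ h.prime.ne_zero) hm0]
  simp [h.prime.factorization_self, Nat.factorization_eq_zero_of_not_dvd hm]

theorem mem_iff_smul_eq [Finite G] (h : Hyp G p f) {u : G} (S : Sylow p G)
    (hu : ∃ k, orderOf u = p ^ k) : u ∈ (S : Subgroup G) ↔ u • S = S := by
  haveI := Fact.mk h.prime
  exact ⟨fun hu => Sylow.smul_eq_iff_mem_normalizer.2 (le_normalizer hu), fun he => mem_of_smul_eq hu S he⟩

theorem pPow [Finite G] (h : Hyp G p f) {S : Sylow p G} {u : G} (hu : u ∈ (S : Subgroup G)) :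
    ∃ k, orderOf u = p ^ k := by
  haveI := Fact.mk h.prime
  obtain ⟨k, hk⟩ := IsPGroup.iff_orderOf.1 S.2 ⟨u, hu⟩
  exact ⟨k, by rwa [Subgroup.orderOf_mk] at hk⟩

/-- A non-trivial element of a Sylow subgroup fixes no other one. -/
theorem fix_eq [Finite G] (h : Hyp G p f) {S T : Sylow p G} {u : G} (hu : u ∈ (S : Subgroup G))
    (hu1 : u ≠ 1) (hT : u • T = T) : T = S := by
  by_contra hne
  have := h.sylow_ti hne
  rw [eq_bot_iff] at this
  exact hu1 (mem_bot.1 (this ⟨(h.mem_iff_smul_eq T (h.pPow hu)).2 hT, hu⟩))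

/-- The normaliser has at most `(q - 1) q` elements. -/
theorem card_normalizer_le [Finite G] (h : Hyp G p f) (S : Sylow p G) :
    Nat.card (normalizer ((S : Subgroup G) : Set G)) ≤ (p ^ f - 1) * p ^ f := by
  classical
  haveI := Fact.mk h.prime
  haveI := Fintype.ofFinite G
  have hS := h.card_sylow S
  have h5 := h.five
  obtain ⟨u, hu, hu1⟩ := exists_ne_one (D := (S : Subgroup G)) (fun e => by
    rw [e, card_bot] at hS; omega)
  set N := Finset.univ.filter fun y : G => y ∈ normalizer ((S : Subgroup G) : Set G) with hN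
  set T := (Finset.univ.filter fun y : G => y ∈ (S : Subgroup G)).erase 1 with hT
  have hSc : (Finset.univ.filter fun y : G => y ∈ (S : Subgroup G)).card = p ^ f := by
    rw [← Fintype.card_subtype, ← Nat.card_eq_fintype_card]; exact hS
  have hmaps : ∀ y ∈ N, y * u * y⁻¹ ∈ T := fun y hy => by
    simp only [hN, Finset.mem_filter, Finset.mem_univ, true_and] at hy
    simp only [hT, Finset.mem_erase, Finset.mem_filter, Finset.mem_univ, true_and]
    exact ⟨fun e => hu1 (by simpa [mul_assoc] using congrArg (fun z => y⁻¹ * z * y) e),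
      (mem_normalizer_iff.1 hy u).1 hu⟩
  have hfib : ∀ b ∈ T, (N.filter fun y => y * u * y⁻¹ = b).card ≤ p ^ f := by
    intro b hb
    rcases (N.filter fun y => y * u * y⁻¹ = b).eq_empty_or_nonempty with he | ⟨y₀, hy₀⟩
    · simp [he]
    rw [← hSc]
    refine Finset.card_le_card_of_injOn (fun y => y₀⁻¹ * y) ?_ (fun a _ c _ e => mul_left_cancel e)
    intro y hy
    simp only [hN, Finset.coe_filter, Finset.mem_filter, Finset.mem_univ, true_and,
      Set.mem_setOf_eq] at hy hy₀ ⊢
    have hcom : Commute u (y₀⁻¹ * y) := by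
      have e : y₀⁻¹ * (y * u * y⁻¹) * y₀ = u := by rw [hy.2, ← hy₀.2]; group
      show u * (y₀⁻¹ * y) = y₀⁻¹ * y * u
      conv_lhs => rw [← e]
      group
    refine mem_of_smul_eq (h.pPow_of_commute (h.pow_p_eq_one S.2 hu) hu1 hcom) S ?_
    exact Sylow.smul_eq_iff_mem_normalizer.2 (mul_mem (inv_mem hy₀.1) hy.1)
  have h1 := Finset.card_le_mul_card_image_of_maps_to hmaps (p ^ f) hfib
  have hTc : T.card = p ^ f - 1 := by
    rw [hT, Finset.card_erase_of_mem (by simp), hSc]
  rw [hTc, hN, ← Fintype.card_subtype, ← Nat.card_eq_fintype_card] at h1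
  rw [mul_comm] at h1
  exact h1

theorem card_sylows [Finite G] (h : Hyp G p f) :
    Nat.card (Sylow p G) = p ^ f + 1 ∧ ∀ S : Sylow p G,
      Nat.card (normalizer ((S : Subgroup G) : Set G)) = p ^ f * ((p ^ f - 1) / 2) := by
  haveI := Fact.mk h.prime
  suffices hh : ∀ S : Sylow p G, Nat.card (Sylow p G) = p ^ f + 1 ∧
      Nat.card (normalizer ((S : Subgroup G) : Set G)) = p ^ f * ((p ^ f - 1) / 2) from
    ⟨(hh (Classical.arbitrary _)).1, fun S => (hh S).2⟩
  intro S
  obtain ⟨h1, h2, -⟩ := h.arith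
  have h5 := h.five
  have hS := h.card_sylow S
  obtain ⟨k, hk⟩ := hS ▸ card_dvd_of_le (le_normalizer (H := (S : Subgroup G)))
  have hmod := SmallSimple.EvenPSL.card_dvd_card_sylow_sub_one S (fun T g hg1 hgS hgT => by
    by_contra hne
    have := h.sylow_ti hne
    rw [eq_bot_iff] at this
    exact hg1 (mem_bot.1 (this ⟨hgS, hgT⟩)))
  rw [hS] at hmod
  obtain ⟨j, hj⟩ := hmod
  have hidx := (normalizer ((S : Subgroup G) : Set G)).card_mul_index
  rw [show (normalizer ((S : Subgroup G) : Set G)).index = Nat.card (Sylow p G) from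
    S.card_eq_index_normalizer.symm, h.card, hk, mul_assoc] at hidx
  have hidx := Nat.eq_of_mul_eq_mul_left (by omega) hidx
  have hle := h.card_normalizer_le S
  rw [hk, mul_comm (p ^ f - 1)] at hle
  have hle := Nat.le_of_mul_le_mul_left hle (by omega)
  have hn : 0 < Nat.card (Sylow p G) := Nat.card_pos
  have hn' : Nat.card (Sylow p G) = p ^ f * j + 1 := by omega
  set q := p ^ f with hq
  set m1 := (q - 1) / 2
  set m2 := (q + 1) / 2
  have hq' : q = 2 * m1 + 1 := by omega
  have hm2 : m2 = m1 + 1 := by omega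
  rw [hn', hm2] at hidx
  have h0 : 2 * k + 1 + 2 * k * q * j = q * q := by rw [hq'] at hidx ⊢; nlinarith
  have hdq : q ∣ 2 * k + 1 := (Nat.dvd_add_left (Dvd.intro (2 * k * j) (by ring))).1
    (h0 ▸ dvd_mul_right q q)
  obtain ⟨c, hc⟩ := hdq
  have hc1 : c = 1 := by
    rcases c with _ | _ | c
    · omega
    · rfl
    · exfalso
      have : q * (c + 1 + 1) = 2 * q + q * c := by ring
      omega
  subst hc1
  have hkm : k = m1 := by omega
  refine ⟨?_, by rw [hk, hkm]⟩
  rw [hn']
  have : 2 * k * (q * j) = 2 * k * q := by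
    have : q * q = (2 * k + 1) * q := by rw [hc, mul_one]
    nlinarith
  have := Nat.eq_of_mul_eq_mul_left (by omega) this
  omega

theorem exists_smul_eq' [Finite G] (h : Hyp G p f) {a y z : Sylow p G} (hy : y ≠ a) (hz : z ≠ a) :
    ∃ u : G, u ∈ (a : Subgroup G) ∧ u • y = z := by
  classical
  haveI := Fact.mk h.prime
  haveI := Fintype.ofFinite G
  haveI := Fintype.ofFinite (Sylow p G)
  let φ : ↥(a : Subgroup G) → {T : Sylow p G // T ≠ a} := fun u => ⟨(u : G) • y, fun e => hy (by
    have := congrArg ((u : G)⁻¹ • ·) e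
    simp only [inv_smul_smul] at this
    rw [this, Sylow.smul_eq_iff_mem_normalizer.2 (inv_mem (le_normalizer u.2))])⟩
  have hinj : Function.Injective φ := by
    intro u v e
    have e' : ((v : G)⁻¹ * u) • y = y := by
      rw [mul_smul, show (u : G) • y = (v : G) • y from congrArg Subtype.val e, inv_smul_smul]
    by_contra hne
    exact hy (h.fix_eq (mul_mem (inv_mem v.2) u.2) (fun e1 => hne (Subtype.ext (inv_mul_eq_one.1 e1).symm)) e')
  have hcard : Nat.card (a : Subgroup G) = Nat.card {T : Sylow p G // T ≠ a} := by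
    rw [h.card_sylow, Nat.card_eq_fintype_card, Fintype.card_subtype_compl, Fintype.card_subtype_eq,
      ← Nat.card_eq_fintype_card, h.card_sylows.1]
    omega
  obtain ⟨u, hu⟩ := (hinj.bijective_of_nat_card_le hcard.ge).2 ⟨z, hz⟩
  exact ⟨u, u.2, congrArg Subtype.val hu⟩

theorem existsUnique_smul_eq [Finite G] (h : Hyp G p f) {a y z : Sylow p G} (hy : y ≠ a)
    (hz : z ≠ a) : ∃! u : (a : Subgroup G), (u : G) • y = z := by
  obtain ⟨u, hu, hue⟩ := h.exists_smul_eq' hy hz
  refine ⟨⟨u, hu⟩, hue, fun v hv => ?_⟩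
  by_contra hne
  refine hy (h.fix_eq (mul_mem (inv_mem hu) v.2) (fun e => hne (Subtype.ext (inv_mul_eq_one.1 e).symm)) ?_)
  rw [mul_smul, hv, ← hue, inv_smul_smul]

theorem eq_one_of_fix_three [Finite G] (h : Hyp G p f) {g : G} {a b c : Sylow p G} (hab : a ≠ b)
    (hbc : b ≠ c) (hac : a ≠ c) (ha : g • a = a) (hb : g • b = b) (hc : g • c = c) : g = 1 := by
  haveI := Fact.mk h.prime
  have hcop : (orderOf g).Coprime p := by
    rw [Nat.coprime_comm, h.prime.coprime_iff_not_dvd]
    intro hd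
    have ho : orderOf (g ^ (orderOf g / p)) = p := orderOf_pow_orderOf_div (orderOf_pos g).ne' hd
    have hst : ∀ T : Sylow p G, g • T = T → g ^ (orderOf g / p) • T = T := fun T hT =>
      mem_stabilizer_iff.1 (pow_mem (mem_stabilizer_iff.2 hT) _)
    have hx := (h.mem_iff_smul_eq a ⟨1, by rw [ho, pow_one]⟩).2 (hst a ha)
    refine hab (h.fix_eq hx (fun e => ?_) (hst b hb)).symm
    rw [e, orderOf_one] at ho
    exact h.prime.ne_one ho.symm
  obtain ⟨u, hu, hun⟩ := h.existsUnique_smul_eq (Ne.symm hab) (Ne.symm hac)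
  have hgu : g * u * g⁻¹ ∈ (a : Subgroup G) :=
    (mem_normalizer_iff.1 (Sylow.smul_eq_iff_mem_normalizer.1 ha) u).1 u.2
  have he := hun ⟨_, hgu⟩ (by
    show (g * u * g⁻¹) • b = c
    rw [mul_smul, inv_smul_eq_iff.2 hb.symm, mul_smul, hu, hc])
  have hcomm : Commute (u : G) g := by
    have := congrArg Subtype.val he
    simp only [mul_inv_eq_iff_eq_mul] at this
    exact this.symm
  refine h.eq_one_of_commute (h.pow_p_eq_one a.2 u.2) (fun e => hbc ?_) hcomm hcop
  rw [← hu, e, one_smul]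

theorem isZassenhaus [Finite G] (h : Hyp G p f) : Cfsg.IsZassenhausGroup G (Sylow p G) := by
  classical
  haveI := Fact.mk h.prime
  obtain ⟨h1, h2, -⟩ := h.arith
  have h5 := h.five
  obtain ⟨hn, hN⟩ := h.card_sylows
  haveI : Nontrivial (Sylow p G) := Finite.one_lt_card_iff_nontrivial.1 (by omega)
  have hthree : ∀ a b : Sylow p G, ∃ c, c ≠ a ∧ c ≠ b := by
    intro a b
    by_contra hcon
    push Not at hcon
    haveI := Fintype.ofFinite (Sylow p G)
    have : (Finset.univ : Finset (Sylow p G)) ⊆ {a, b} := fun c _ => by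
      simp only [Finset.mem_insert, Finset.mem_singleton]
      rcases eq_or_ne c a with e | e
      · exact Or.inl e
      · exact Or.inr (hcon c e)
    have := Finset.card_le_card this
    rw [Finset.card_univ, ← Nat.card_eq_fintype_card, hn] at this
    have := Finset.card_le_two (a := a) (b := b)
    omega
  refine ⟨⟨fun {g g'} hgg => ?_⟩, ?_, fun g a b c hab hbc hac => h.eq_one_of_fix_three hab hbc hac,
    ?_, ?_⟩
  · obtain ⟨a, b, hab⟩ := exists_pair_ne (Sylow p G)
    obtain ⟨c, hca, hcb⟩ := hthree a b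
    have hfix : ∀ T : Sylow p G, (g'⁻¹ * g) • T = T := fun T => by rw [mul_smul, hgg, inv_smul_smul]
    exact (inv_mul_eq_one.1 (h.eq_one_of_fix_three hab hcb.symm hca.symm (hfix a) (hfix b) (hfix c))).symm
  · rw [MulAction.is_two_pretransitive_iff]
    intro a b c d hab hcd
    obtain ⟨g, hg⟩ := MulAction.exists_smul_eq G a c
    obtain ⟨u, hu, hue⟩ := h.exists_smul_eq' (a := c) (y := g • b) (z := d)
      (fun e => hab (smul_left_cancel g (hg.trans e.symm))) hcd.symm
    refine ⟨u * g, ?_, by rw [mul_smul, hue]⟩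
    rw [mul_smul, hg, Sylow.smul_eq_iff_mem_normalizer.2 (le_normalizer hu)]
  · obtain ⟨a, b, hab⟩ := exists_pair_ne (Sylow p G)
    have hlt : Nat.card (a : Subgroup G) < Nat.card (normalizer ((a : Subgroup G) : Set G)) := by
      rw [h.card_sylow, hN]
      exact lt_mul_of_one_lt_right (by omega) (by omega)
    obtain ⟨g, hgN, hga⟩ : ∃ g ∈ normalizer ((a : Subgroup G) : Set G), g ∉ (a : Subgroup G) := by
      by_contra hcon
      push Not at hcon
      exact hlt.not_ge (Nat.card_le_card_of_injective (inclusion (fun x hx => hcon x hx))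
        (inclusion_injective _))
    have hg : g • a = a := Sylow.smul_eq_iff_mem_normalizer.2 hgN
    obtain ⟨u, hu, hue⟩ := h.exists_smul_eq' (a := a) (y := g • b) (z := b)
      (fun e => hab (smul_left_cancel g (hg.trans e.symm))) hab.symm
    refine ⟨u * g, fun e => hga ?_, a, b, hab, ?_, by rw [mul_smul, hue]⟩
    · rw [eq_inv_of_mul_eq_one_right e]; exact inv_mem hu
    · rw [mul_smul, hg, Sylow.smul_eq_iff_mem_normalizer.2 (le_normalizer hu)]
  · intro R hRn hRt
    by_contra hcon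
    push Not at hcon
    obtain ⟨a, b, hab⟩ := exists_pair_ne (Sylow p G)
    have hfree : ∀ r : R, ∀ T : Sylow p G, (r : G) • T = T → r = 1 := fun r T hr => by
      have : r ∈ MulAction.stabilizer R T := hr
      rwa [hcon T, mem_bot] at this
    have hbij : Function.Bijective fun r : R => (r : G) • a :=
      ⟨fun r s e => by
        have := hfree (s⁻¹ * r) a (by
          rw [Subgroup.coe_mul, mul_smul, show (r : G) • a = (s : G) • a from e, ← mul_smul,
            Subgroup.coe_inv, inv_mul_cancel, one_smul])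
        exact (inv_mul_eq_one.1 this).symm,
      fun T => by obtain ⟨r, hr⟩ := hRt.exists_smul_eq a T; exact ⟨r, hr⟩⟩
    have hRc : Nat.card R = p ^ f + 1 := by rw [Nat.card_eq_of_bijective _ hbij, hn]
    haveI : Fact (Nat.Prime 2) := ⟨Nat.prime_two⟩
    obtain ⟨t, ht⟩ := exists_prime_orderOf_dvd_card' (G := R) 2 (hRc ▸ ⟨(p ^ f + 1) / 2, h2.symm⟩)
    have ht1 : t ≠ 1 := fun e => by simp [e] at ht
    have hsq : ∀ r : R, r ^ 2 = 1 := by
      intro r
      rcases eq_or_ne r 1 with e | e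
      · simp [e]
      obtain ⟨u, hu, hue⟩ := h.exists_smul_eq' (a := a) (y := (t : G) • a) (z := (r : G) • a)
        (fun e' => ht1 (hfree t a e')) (fun e' => e (hfree r a e'))
      have hua : u⁻¹ • a = a := Sylow.smul_eq_iff_mem_normalizer.2 (inv_mem (le_normalizer hu))
      have hr : (⟨u * t * u⁻¹, hRn.conj_mem t t.2 u⟩ : R) = r := hbij.1 (by
        show (u * t * u⁻¹) • a = (r : G) • a
        rw [mul_smul, hua, mul_smul, hue])
      subst hr
      refine Subtype.ext ?_
      show (u * t * u⁻¹) ^ 2 = 1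
      rw [conj_pow, ← SubmonoidClass.coe_pow, ← ht, pow_orderOf_eq_one, Subgroup.coe_one, mul_one, mul_inv_cancel]
    obtain ⟨k, hk⟩ := IsPGroup.iff_card.1 (fun r : R => ⟨1, by rw [pow_one]; exact hsq r⟩ : IsPGroup 2 R)
    rw [hRc] at hk
    obtain ⟨x, hx⟩ := h.plus
    have hk3 : 3 ≤ k := by
      by_contra hlt
      have h4 : 2 ^ k ≤ 2 ^ 2 := Nat.pow_le_pow_right two_pos (by omega)
      omega
    have hm : (p ^ f + 1) / 2 = 2 ^ (k - 1) := by
      rw [hk]
      conv_lhs => rw [show k = k - 1 + 1 by omega, pow_succ]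
      omega
    have hodd : ¬ 2 ∣ p ^ f * ((p ^ f - 1) / 2) := by
      rw [Nat.prime_two.dvd_mul]
      have h8 : 2 ^ 3 ∣ 2 ^ k := pow_dvd_pow 2 hk3
      rw [← hk] at h8
      norm_num at h8
      rintro (hd | hd) <;> omega
    have hxR : x ∈ R := by
      refine (QuotientGroup.eq_one_iff _).1 (orderOf_eq_one_iff.1 ?_)
      have hd1 : orderOf (QuotientGroup.mk (s := R) x) ∣ 2 ^ (k - 1) :=
        hm ▸ hx ▸ orderOf_map_dvd (QuotientGroup.mk' R) x
      have hidx : R.index = p ^ f * ((p ^ f - 1) / 2) := by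
        have e := R.card_mul_index
        rw [hRc, h.card] at e
        refine Nat.eq_of_mul_eq_mul_left (show 0 < p ^ f + 1 by omega) (e.trans ?_)
        conv_rhs => rw [← h2]
        ring
      have hd2 : orderOf (QuotientGroup.mk (s := R) x) ∣ p ^ f * ((p ^ f - 1) / 2) :=
        hidx ▸ _root_.orderOf_dvd_natCard _
      exact Nat.eq_one_of_dvd_coprimes
        (Nat.Coprime.pow_left _ (Nat.prime_two.coprime_iff_not_dvd.2 hodd)) hd1 hd2
    have := Nat.le_of_dvd two_pos (orderOf_dvd_of_pow_eq_one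
      (congrArg Subtype.val (hsq ⟨x, hxR⟩) : x ^ 2 = 1))
    rw [hx, hm] at this
    have := Nat.pow_le_pow_right (show 0 < 2 by omega) (show 2 ≤ k - 1 by omega)
    omega

end Hyp

end Cfsg.Agent.PSLOrderSpectrum
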